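import Mathlib
import Groth.Agent.TorLib.Balance

/-! `Tor` of the residue field at a node `x y = 0`. -/

set_option autoImplicit false
universe u

open CategoryTheory CategoryTheory.Limits

noncomputable section

namespace Groth.Agent.NodeTorLib

variable {A : Type u} [CommRing A]

/-- Multiplication by `c` from `A / (b)` to `A`. -/
def mulMap (c b : A) (hcb : c * b = 0) : (A ⧸ Ideal.span {b}) →ₗ[A] A :=
  Submodule.liftQ _ (LinearMap.mulLeft A c) (by
    rw [Submodule.span_le, Set.singleton_subset_iff, SetLike.mem_coe, LinearMap.mem_ker]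
    exact hcb)

theorem mulMap_mk (c b : A) (hcb : c * b = 0) (r : A) :
    mulMap c b hcb (Submodule.Quotient.mk r) = c * r := rfl

/-- The data of a node: `x y = 0` and the only relations between `x`, `y` are the obvious ones. -/
structure IsNode (x y : A) : Prop where
  mul_eq_zero : x * y = 0
  rel : ∀ u v : A, x * u + y * v = 0 → u ∈ Ideal.span {y} ∧ v ∈ Ideal.span {x}

theorem IsNode.symm {x y : A} (h : IsNode x y) : IsNode y x :=
  ⟨by rw [mul_comm, h.mul_eq_zero], fun u v e => (h.rel v u (by rw [add_comm, e])).symm⟩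

theorem IsNode.ses {x y : A} (h : IsNode x y) :
    Function.Injective (mulMap x y h.mul_eq_zero) ∧
      Function.Exact (mulMap x y h.mul_eq_zero) (Ideal.span {x}).mkQ := by
  refine ⟨?_, ?_⟩
  · rw [injective_iff_map_eq_zero]
    intro z hz
    obtain ⟨r, rfl⟩ := Submodule.Quotient.mk_surjective _ z
    rw [mulMap_mk] at hz
    rw [Submodule.Quotient.mk_eq_zero]
    exact (h.rel r 0 (by rw [hz, mul_zero, add_zero])).1
  · intro r
    rw [Submodule.mkQ_apply, Submodule.Quotient.mk_eq_zero, Ideal.mem_span_singleton']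
    constructor
    · rintro ⟨c, rfl⟩
      exact ⟨Submodule.Quotient.mk c, by rw [mulMap_mk, mul_comm]⟩
    · rintro ⟨z, rfl⟩
      obtain ⟨c, rfl⟩ := Submodule.Quotient.mk_surjective _ z
      exact ⟨c, by rw [mulMap_mk, mul_comm]⟩

theorem rTensor_eq_zero {X : Type u} [AddCommGroup X] [Module A X] (m : Ideal A) (f : X →ₗ[A] A)
    (hf : ∀ z, f z ∈ m) : f.rTensor (A ⧸ m) = 0 := by
  apply TensorProduct.ext'
  intro z w
  rw [LinearMap.rTensor_tmul, LinearMap.zero_apply]
  obtain ⟨w, rfl⟩ := Ideal.Quotient.mk_surjective w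
  rw [show f z = f z • (1 : A) by rw [smul_eq_mul, mul_one], TensorProduct.smul_tmul,
    show f z • Ideal.Quotient.mk m w = Ideal.Quotient.mk m (f z * w) from rfl,
    Ideal.Quotient.eq_zero_iff_mem.2 (m.mul_mem_right _ (hf z)), TensorProduct.tmul_zero]

theorem length_quot (m : Ideal A) [m.IsMaximal] : Module.length A (A ⧸ m) = 1 := by
  rw [Module.length_eq_one_iff, isSimpleModule_iff_isCoatom]
  exact Ideal.isMaximal_def.1 ‹_›

theorem length_tensor (m : Ideal A) [m.IsMaximal] (b : A) (hb : b ∈ m) :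
    Module.length A (TensorProduct A (A ⧸ Ideal.span {b}) (A ⧸ m)) = 1 := by
  have hle : Ideal.span {b} ≤ m := (Ideal.span_singleton_le_iff_mem _).2 hb
  have e1 : m • (⊤ : Submodule A (A ⧸ Ideal.span {b})) = Submodule.map (Ideal.span {b}).mkQ m := by
    rw [← Submodule.range_mkQ (Ideal.span {b}), ← Submodule.map_top, ← Submodule.map_smul'',
      smul_eq_mul, Ideal.mul_top]
  rw [((TensorProduct.tensorQuotEquivQuotSMul (A ⧸ Ideal.span {b}) m).trans
    ((Submodule.quotEquivOfEq _ _ e1).trans
      (Submodule.quotientQuotientEquivQuotient _ m hle))).length_eq]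
  exact length_quot m

theorem length_tor_quot (m : Ideal A) [m.IsMaximal] :
    ∀ (n : ℕ) {x y : A}, IsNode x y → x ∈ m → y ∈ m →
      Module.length A (DRing.Tor A (n + 1) (A ⧸ Ideal.span {x}) (A ⧸ m)) = 1 := by
  intro n
  induction n with
  | zero =>
    intro x y h hx hy
    obtain ⟨hi, he⟩ := h.ses
    have e := TorLib.torOneEquivKer _ _ (A ⧸ m) hi (Submodule.mkQ_surjective _) he
    have hz := LinearMap.ker_eq_top.2 (rTensor_eq_zero m (mulMap x y h.mul_eq_zero) (fun z => by
        obtain ⟨r, rfl⟩ := Submodule.Quotient.mk_surjective _ z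
        rw [mulMap_mk]; exact m.mul_mem_right _ hx))
    exact ((e.trans (LinearEquiv.ofEq _ _ hz)).trans Submodule.topEquiv).length_eq.trans
      (length_tensor m y hy)
  | succ n ih =>
    intro x y h hx hy
    obtain ⟨hi, he⟩ := h.ses
    have e := TorLib.torSuccEquiv _ _ (A ⧸ m) hi (Submodule.mkQ_surjective _) he n
    refine e.length_eq.trans ?_
    exact ih h.symm hy hx

/-- Left derived functors are additive. -/
theorem additive_leftDerived (G : ModuleCat.{u} A ⥤ ModuleCat.{u} A) [G.Additive] (n : ℕ) :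
    (G.leftDerived n).Additive := by
  refine ⟨fun {X Y} {f g} => ?_⟩
  let P := projectiveResolution X
  let Q := projectiveResolution Y
  have hf := ProjectiveResolution.lift_commutes f P Q
  have hg := ProjectiveResolution.lift_commutes g P Q
  rw [G.leftDerived_map_eq n f _ hf, G.leftDerived_map_eq n g _ hg,
    G.leftDerived_map_eq n (f + g) (ProjectiveResolution.lift f P Q + ProjectiveResolution.lift g P Q)
      (by rw [Preadditive.add_comp, hf, hg, Functor.map_add, Preadditive.comp_add]),
    Functor.map_add, Preadditive.add_comp, Preadditive.comp_add]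

theorem length_tor_prod (n : ℕ) (X Y N : Type u) [AddCommGroup X] [Module A X] [AddCommGroup Y]
    [Module A Y] [AddCommGroup N] [Module A N] :
    Module.length A (DRing.Tor A n (X × Y) N) =
      Module.length A (DRing.Tor A n X N) + Module.length A (DRing.Tor A n Y N) := by
  let F := (CategoryTheory.Tor (ModuleCat.{u} A) n).obj (ModuleCat.of A N)
  have : F.Additive := by
    exact additive_leftDerived _ n
  have : PreservesBinaryBiproduct (ModuleCat.of A X) (ModuleCat.of A Y) F :=
    preservesBinaryBiproduct_of_preservesBiproduct F _ _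
  let b := fun (Z : ModuleCat.{u} A) => ((TorLib.torBalance A n).app Z).app (ModuleCat.of A N)
  let e : F.obj (ModuleCat.of A (X × Y)) ≅ ModuleCat.of A
      (↑(F.obj (ModuleCat.of A X)) × ↑(F.obj (ModuleCat.of A Y))) :=
    F.mapIso (ModuleCat.biprodIsoProd (ModuleCat.of A X) (ModuleCat.of A Y)).symm ≪≫
      F.mapBiprod (ModuleCat.of A X) (ModuleCat.of A Y) ≪≫ ModuleCat.biprodIsoProd _ _
  have h := ((b (ModuleCat.of A (X × Y))) ≪≫ e).toLinearEquiv.length_eq
  refine h.trans ((Module.length_prod (R := A) (M := _) (N := _)).trans ?_)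
  exact congrArg₂ (· + ·) (b (ModuleCat.of A X)).toLinearEquiv.length_eq.symm
    (b (ModuleCat.of A Y)).toLinearEquiv.length_eq.symm

variable {x y : A}

/-- `A/(y) × A/(x) → A`, the inclusion of the maximal ideal. -/
def inclMap (h : IsNode x y) : ((A ⧸ Ideal.span {y}) × (A ⧸ Ideal.span {x})) →ₗ[A] A :=
  (mulMap x y h.mul_eq_zero).coprod (mulMap y x h.symm.mul_eq_zero)

theorem inclMap_ses (h : IsNode x y) (m : Ideal A) (hm : m = Ideal.span {x, y}) :
    Function.Injective (inclMap h) ∧ Function.Exact (inclMap h) m.mkQ := by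
  refine ⟨?_, ?_⟩
  · rw [injective_iff_map_eq_zero]
    rintro ⟨u, v⟩ he
    obtain ⟨u, rfl⟩ := Submodule.Quotient.mk_surjective _ u
    obtain ⟨v, rfl⟩ := Submodule.Quotient.mk_surjective _ v
    simp only [inclMap, LinearMap.coprod_apply, mulMap_mk] at he
    obtain ⟨h1, h2⟩ := h.rel u v he
    exact Prod.ext ((Submodule.Quotient.mk_eq_zero _).2 h1) ((Submodule.Quotient.mk_eq_zero _).2 h2)
  · intro r
    rw [Submodule.mkQ_apply, Submodule.Quotient.mk_eq_zero, hm, Ideal.mem_span_pair]
    constructor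
    · rintro ⟨a, b, rfl⟩
      exact ⟨(Submodule.Quotient.mk a, Submodule.Quotient.mk b), by
        simp only [inclMap, LinearMap.coprod_apply, mulMap_mk]; ring⟩
    · rintro ⟨⟨u, v⟩, rfl⟩
      obtain ⟨u, rfl⟩ := Submodule.Quotient.mk_surjective _ u
      obtain ⟨v, rfl⟩ := Submodule.Quotient.mk_surjective _ v
      exact ⟨u, v, by simp only [inclMap, LinearMap.coprod_apply, mulMap_mk]; ring⟩

theorem length_tor_residue (h : IsNode x y) (m : Ideal A) [m.IsMaximal] (hm : m = Ideal.span {x, y})
    (n : ℕ) : Module.length A (DRing.Tor A (n + 1) (A ⧸ m) (A ⧸ m)) = 2 := by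
  have hx : x ∈ m := hm ▸ Ideal.subset_span (Or.inl rfl)
  have hy : y ∈ m := hm ▸ Ideal.subset_span (Or.inr rfl)
  obtain ⟨hi, he⟩ := inclMap_ses h m hm
  cases n with
  | zero =>
    have e := TorLib.torOneEquivKer _ _ (A ⧸ m) hi (Submodule.mkQ_surjective _) he
    have hz := LinearMap.ker_eq_top.2 (rTensor_eq_zero m (inclMap h) (fun z => by
        obtain ⟨⟨u⟩, ⟨v⟩⟩ := z
        exact m.add_mem (m.mul_mem_right _ hx) (m.mul_mem_right _ hy)))
    refine ((e.trans (LinearEquiv.ofEq _ _ hz)).trans Submodule.topEquiv).length_eq.trans ?_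
    rw [(TensorProduct.prodLeft A A (A ⧸ Ideal.span {y}) (A ⧸ Ideal.span {x}) (A ⧸ m)).length_eq,
      Module.length_prod, length_tensor m y hy, length_tensor m x hx]
    rfl
  | succ n =>
    have e := TorLib.torSuccEquiv _ _ (A ⧸ m) hi (Submodule.mkQ_surjective _) he n
    refine e.length_eq.trans ?_
    rw [length_tor_prod, length_tor_quot m n h.symm hy hx, length_tor_quot m n h hx hy]
    rfl

end Groth.Agent.NodeTorLib
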